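import Groth.Prelude.Def_FlatMod2
import Groth.Agent.H10Coh.ToSheaf
import Mathlib

/-!
Stalks of O_X-modules: epimorphisms are surjective on stalks, and stalks of modules of finite type
are finite over the local rings.
-/

set_option autoImplicit false
set_option linter.style.haveILetI false

universe u

open CategoryTheory CategoryTheory.Limits AlgebraicGeometry TopologicalSpace Opposite

namespace Groth.Agent.H06Mod

variable {X : Scheme.{u}}

theorem surjective_stalk_of_epi {M N : X.Modules} (φ : M ⟶ N) [Epi φ] (x : X) :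
    Function.Surjective ((TopCat.Presheaf.stalkFunctor Ab.{u} x).map φ.mapPresheaf) := by
  let F := SheafOfModules.toSheaf.{u} X.ringCatSheaf
  have : PreservesColimitsOfShape WalkingSpan F := inferInstance
  have : F.PreservesEpimorphisms := CategoryTheory.preservesEpimorphisms_of_preservesColimitsOfShape F
  haveI hφ : @Epi (SheafOfModules.{u} X.ringCatSheaf) _ _ _ φ := ‹Epi φ›
  have h : Epi (F.map φ) := F.map_epi φ
  have h2 := (Sheaf.isLocallySurjective_iff_epi' (A := AddCommGrpCat.{u}) (F.map φ)).2 h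
  exact (TopCat.Presheaf.locally_surjective_iff_surjective_on_stalks φ.mapPresheaf).1 h2 x

theorem germ_smul (M : X.Modules) {x : X} (U : X.Opens) (hx : x ∈ U) (r : Γ(X, U)) (m : Γ(M, U)) :
    M.presheaf.germ U x hx (r • m) = X.presheaf.germ U x hx r • M.presheaf.germ U x hx m :=
  PresheafOfModules.germ_smul (R := X.presheaf)
    (show PresheafOfModules (X.presheaf ⋙ forget₂ CommRingCat RingCat) from M.val) x U hx r m

theorem app_unit {M : X.Modules} (φ : Coh.structureModule X ⟶ M) (W : X.Opens) (r : Γ(X, W)) :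
    φ.app W r = r • M.presheaf.map (homOfLE (le_top : W ≤ ⊤)).op (φ.app ⊤ (1 : Γ(X, ⊤))) := by
  have h1 : (φ.app W (1 : Γ(X, W)) : Γ(M, W))
      = M.presheaf.map (homOfLE (le_top : W ≤ ⊤)).op (φ.app ⊤ (1 : Γ(X, ⊤))) := by
    have h := congr($(φ.mapPresheaf.naturality (homOfLE (le_top : W ≤ ⊤)).op) (1 : Γ(X, ⊤)))
    refine Eq.trans ?_ h
    show φ.app W _ = φ.app W _
    congr 1
    exact (map_one (X.presheaf.map (homOfLE (le_top : W ≤ ⊤)).op).hom).symm
  rw [← h1, ← Scheme.Modules.Hom.app_smul]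
  congr 1
  exact (mul_one r).symm

/-- Every germ is a combination of finitely many generating global sections. -/
theorem exists_combination (M : X.Modules) (σ : M.GeneratingSections) [σ.IsFiniteType] (x : X)
    (m : M.presheaf.stalk x) :
    m ∈ AddSubgroup.closure {z | ∃ (W : X.Opens) (hx : x ∈ W) (r : Γ(X, W)) (i : σ.I),
      z = M.presheaf.germ W x hx (r • M.presheaf.map (homOfLE (le_top : W ≤ ⊤)).op
        ((SheafOfModules.ιFree i ≫ σ.π : Coh.structureModule X ⟶ M).app ⊤ (1 : Γ(X, ⊤))))} := by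
  classical
  have : Finite σ.I := SheafOfModules.GeneratingSections.IsFiniteType.finite
  have := Fintype.ofFinite σ.I
  let π : (∐ fun _ : σ.I => Coh.structureModule X) ⟶ M := σ.π
  have hπ : Epi π := σ.epi
  obtain ⟨a, rfl⟩ := surjective_stalk_of_epi π x m
  let p : σ.I → ((∐ fun _ : σ.I => Coh.structureModule X) ⟶ Coh.structureModule X) :=
    fun i => Sigma.desc fun j => if j = i then 𝟙 _ else 0
  have hid : ∑ i, p i ≫ Sigma.ι (fun _ : σ.I => Coh.structureModule X) i = 𝟙 _ := by
    refine Sigma.hom_ext _ _ fun j => ?_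
    rw [Preadditive.comp_sum, Category.comp_id, Finset.sum_eq_single j]
    · simp [p]
    · intro b _ hb
      simp [p, if_neg (Ne.symm hb)]
    · simp
  let F := Scheme.Modules.toPresheaf X ⋙ TopCat.Presheaf.stalkFunctor Ab.{u} x
  have : (Scheme.Modules.toPresheaf X).Additive := ⟨rfl⟩
  have ha : F.map π a = ∑ i, F.map (p i ≫ Sigma.ι (fun _ : σ.I => Coh.structureModule X) i ≫ π) a := by
    conv_lhs => rw [← Category.id_comp π, ← hid, Preadditive.sum_comp, Functor.map_sum]
    simp only [Category.assoc]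
    exact map_sum (AddMonoidHom.mk'
      (fun f : F.obj (∐ fun _ : σ.I => Coh.structureModule X) ⟶ F.obj M => f a) (fun _ _ => rfl)) _ _
  show F.map π a ∈ _
  rw [ha]
  refine sum_mem fun i _ => AddSubgroup.subset_closure ?_
  rw [F.map_comp]
  obtain ⟨W, hx, r, hr⟩ := (Coh.structureModule X).presheaf.exists_germ_eq (F.map (p i) a)
  refine ⟨W, hx, r, i, ?_⟩
  rw [ConcreteCategory.comp_apply, ← app_unit]
  rw [← hr]
  exact TopCat.Presheaf.stalkFunctor_map_germ_apply W x hx _ r

/-- Stalks of modules of finite type are finite over the local rings. -/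
theorem finite_stalk (M : X.Modules) (hM : SheafOfModules.IsFiniteType.{u} (R := X.ringCatSheaf) M)
    (x : X) :
    Module.Finite (X.presheaf.stalk x) (M.presheaf.stalk x) := by
  classical
  obtain ⟨D, hD⟩ := hM.exists_localGeneratorsData
  obtain ⟨i, hxi⟩ := Opens.mem_iSup.1
    (((Opens.coversTop_iff _ _).1 D.coversTop).symm ▸ Opens.mem_top x : x ∈ ⨆ i, D.X i)
  let U : X.Opens := D.X i
  let e := Scheme.Modules.overEquiv U
  let F := Scheme.Modules.overFunctorEquiv U
  let σ₀ : (SheafOfModules.over (R := X.ringCatSheaf) M U).GeneratingSections := D.generators i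
  have : σ₀.IsFiniteType := hD.isFiniteType i
  let σ₁ : (e.functor.obj (SheafOfModules.over (R := X.ringCatSheaf) M U)).GeneratingSections :=
    @SheafOfModules.GeneratingSections.map _ _ _ _ _ _ _ _ _ _ _ _ _ σ₀ e.functor
      (by exact e.toAdjunction.leftAdjoint_preservesColimits)
      ((Scheme.Modules.restrictUnitIso U.ι).symm ≪≫ (F.app (SheafOfModules.unit X.ringCatSheaf)).symm)
  let σ : (M.restrict U.ι).GeneratingSections := σ₁.ofEpi (F.app M).hom
  have : Finite σ₀.I := SheafOfModules.GeneratingSections.IsFiniteType.finite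
  have hσ : σ.IsFiniteType := ⟨inferInstanceAs (Finite σ₀.I)⟩
  let y : ↥(U : Scheme.{u}) := ⟨x, hxi⟩
  have : Finite σ.I := hσ.finite
  have := Fintype.ofFinite σ.I
  let s : σ.I → Γ(M, U.ι ''ᵁ ⊤) := fun j =>
    (SheafOfModules.ιFree j ≫ σ.π : Coh.structureModule _ ⟶ M.restrict U.ι).app ⊤ (1 : Γ((U : Scheme.{u}), ⊤))
  have hxtop : U.ι y ∈ U.ι ''ᵁ (⊤ : (U : Scheme.{u}).Opens) := ⟨y, trivial, rfl⟩
  let g : σ.I → M.presheaf.stalk (U.ι y) := fun j => M.presheaf.germ _ _ hxtop (s j)
  show Module.Finite (X.presheaf.stalk (U.ι y)) (M.presheaf.stalk (U.ι y))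
  refine ⟨⟨Finset.univ.image g, ?_⟩⟩
  rw [eq_top_iff]
  rintro (m : M.presheaf.stalk (U.ι y)) -
  obtain ⟨a, rfl⟩ : ∃ a, (Scheme.Modules.restrictStalkNatIso U.ι y).hom.app M a = m :=
    ⟨(Scheme.Modules.restrictStalkNatIso U.ι y).inv.app M m, by
      rw [← ConcreteCategory.comp_apply, ← NatTrans.comp_app, Iso.inv_hom_id]; rfl⟩
  have ha := exists_combination (M.restrict U.ι) σ y a
  induction ha using AddSubgroup.closure_induction with
  | mem z hz =>
    obtain ⟨W, hy, r, j, rfl⟩ := hz
    have h := congr($(Scheme.Modules.germ_restrictStalkNatIso_hom_app U.ι y M (U := W) hy)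
      (r • (M.restrict U.ι).presheaf.map (homOfLE (le_top : W ≤ ⊤)).op
        ((SheafOfModules.ιFree j ≫ σ.π : Coh.structureModule _ ⟶ M.restrict U.ι).app ⊤
          (1 : Γ((U : Scheme.{u}), ⊤)))))
    rw [ConcreteCategory.comp_apply] at h
    erw [h]
    rw [show (r • (M.restrict U.ι).presheaf.map (homOfLE (le_top : W ≤ ⊤)).op
        ((SheafOfModules.ιFree j ≫ σ.π : Coh.structureModule _ ⟶ M.restrict U.ι).app ⊤
          (1 : Γ((U : Scheme.{u}), ⊤))) : Γ(M.restrict U.ι, W))
        = ((U.ι.appIso W).inv r • M.presheaf.map (homOfLE (U.ι.image_mono le_top)).op (s j) :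
          Γ(M, U.ι ''ᵁ W)) from rfl]
    rw [germ_smul, TopCat.Presheaf.germ_res_apply]
    refine Submodule.smul_mem _ _ (Submodule.subset_span ?_)
    exact Finset.mem_coe.2 (Finset.mem_image.2 ⟨j, Finset.mem_univ _, rfl⟩)
  | zero => rw [map_zero]; exact zero_mem _
  | add a b _ _ ha hb => rw [map_add]; exact add_mem ha hb
  | neg a _ ha => erw [map_neg]; exact neg_mem ha

end Groth.Agent.H06Mod
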