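import Groth.Prelude.Def_FlatMod2
import Groth.Prelude.Def_Omega3
import Groth.Agent.H06Mod.StalkFinite

/-! The stalk of an inverse image of `O`-modules: `(f^* M)_x = O_{X,x} ⊗_{O_{Y,f x}} M_{f x}`. -/

set_option autoImplicit false
set_option linter.style.haveILetI false

universe u

open CategoryTheory CategoryTheory.Limits AlgebraicGeometry TopologicalSpace Opposite TensorProduct

namespace Groth.Agent.H06Mod

variable {X Y : Scheme.{u}}

/-- Sections of the skyscraper module: `N` over opens containing `x`, zero otherwise. -/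
noncomputable def skyPre (x : X) (N : Type u) [AddCommGroup N] : (Opens X)ᵒᵖ ⥤ AddCommGrpCat.{u} where
  obj U := AddCommGrpCat.of (ULift.{u} (PLift (x ∈ U.unop)) → N)
  map {U V} i := AddCommGrpCat.ofHom
    { toFun := fun g h => g ⟨⟨i.unop.le h.down.down⟩⟩
      map_zero' := rfl
      map_add' := fun _ _ => rfl }

section Sky

variable (x : X) (N : Type u) [AddCommGroup N] [Module (X.presheaf.stalk x) N]

noncomputable instance skyModule (U : (Opens X)ᵒᵖ) :
    Module (X.ringCatSheaf.obj.obj U) ((skyPre x N).obj U) where
  smul r g := fun h => X.presheaf.germ U.unop x h.down.down r • (g h : N)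
  one_smul g := funext fun h => by
    show X.presheaf.germ U.unop x h.down.down 1 • (g h : N) = g h
    rw [map_one, one_smul]
  mul_smul r s g := funext fun h =>
    (congrArg (· • (g h : N))
      (map_mul (X.presheaf.germ U.unop x h.down.down).hom (show Γ(X, U.unop) from r) s)).trans
      (mul_smul _ _ _)
  smul_zero r := funext fun h => smul_zero _
  smul_add r g g' := funext fun h => smul_add _ _ _
  add_smul r s g := funext fun h =>
    (congrArg (· • (g h : N))
      (map_add (X.presheaf.germ U.unop x h.down.down).hom (show Γ(X, U.unop) from r) s)).trans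
      (add_smul _ _ _)
  zero_smul g := funext fun h => by
    show X.presheaf.germ U.unop x h.down.down 0 • (g h : N) = _
    rw [map_zero, zero_smul]
    rfl

/-- The skyscraper `O_X`-module with value the `O_{X,x}`-module `N`. -/
noncomputable def sky : X.Modules where
  val := PresheafOfModules.ofPresheaf (R := X.ringCatSheaf.obj) (skyPre x N) fun U V i r g => by
    funext h
    show X.presheaf.germ U.unop x (i.unop.le h.down.down) r • (g _ : N) = _
    show _ = X.presheaf.germ V.unop x h.down.down (X.presheaf.map i r) • (g _ : N)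
    rw [X.presheaf.germ_res_apply' i x h.down.down r]
  isSheaf := by
    change TopCat.Presheaf.IsSheaf (skyPre x N : TopCat.Presheaf AddCommGrpCat.{u} X)
    rw [TopCat.Presheaf.isSheaf_iff_isSheafUniqueGluing]
    intro ι U sf hsf
    refine ⟨fun h => sf _ ⟨⟨(Opens.mem_iSup.mp h.down.down).choose_spec⟩⟩, fun i => ?_, fun s hs => ?_⟩
    · funext h
      exact congrFun (hsf (Opens.mem_iSup.mp (Opens.mem_iSup.mpr ⟨i, h.down.down⟩)).choose i)
        ⟨⟨(Opens.mem_iSup.mp (Opens.mem_iSup.mpr ⟨i, h.down.down⟩)).choose_spec, h.down.down⟩⟩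
    · funext h
      exact congrFun (hs _) ⟨⟨(Opens.mem_iSup.mp h.down.down).choose_spec⟩⟩

/-- The value at `x` of a section of the skyscraper. -/
noncomputable def skyEval (U : X.Opens) (h : x ∈ U) : Γ(sky x N, U) →+ N where
  toFun g := g ⟨⟨h⟩⟩
  map_zero' := rfl
  map_add' _ _ := rfl

theorem skyEval_smul (U : X.Opens) (h : x ∈ U) (r : Γ(X, U)) (g : Γ(sky x N, U)) :
    skyEval x N U h (r • g) = X.presheaf.germ U x h r • skyEval x N U h g := rfl

theorem skyEval_ext {U : X.Opens} {g g' : Γ(sky x N, U)}
    (h : ∀ hx : x ∈ U, skyEval x N U hx g = skyEval x N U hx g') : g = g' :=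
  funext fun hx => h hx.down.down

variable {x N}

/-- A morphism into the skyscraper induces a map on the stalk. -/
noncomputable def stalkOfHom {F : X.Modules} (φ : F ⟶ sky x N) :
    F.presheaf.stalk x ⟶ AddCommGrpCat.of N :=
  colimit.desc ((OpenNhds.inclusion x).op ⋙ F.presheaf)
    ⟨AddCommGrpCat.of N,
      { app := fun U => φ.app U.unop.1 ≫ AddCommGrpCat.ofHom (skyEval x N U.unop.1 U.unop.2)
        naturality := fun U V i => by
          ext a
          show skyEval x N V.unop.1 V.unop.2 (φ.app V.unop.1 (F.presheaf.map _ a)) = _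
          exact congrArg (skyEval x N V.unop.1 V.unop.2)
            (congr($(φ.mapPresheaf.naturality ((OpenNhds.inclusion x).op.map i)) a)) }⟩

theorem stalkOfHom_germ {F : X.Modules} (φ : F ⟶ sky x N) (U : X.Opens) (h : x ∈ U) (a : Γ(F, U)) :
    stalkOfHom φ (F.presheaf.germ U x h a) = skyEval x N U h (φ.app U a) :=
  by
  show (colimit.ι ((OpenNhds.inclusion x).op ⋙ F.presheaf) (op (⟨U, h⟩ : OpenNhds x)) ≫ stalkOfHom φ) a = _
  rw [stalkOfHom, colimit.ι_desc]
  rfl

theorem exists_germ_pair (F : X.Modules) (x : X) (r : X.presheaf.stalk x) (a : F.presheaf.stalk x) :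
    ∃ (U : X.Opens) (h : x ∈ U) (r' : Γ(X, U)) (a' : Γ(F, U)),
      X.presheaf.germ U x h r' = r ∧ F.presheaf.germ U x h a' = a := by
  obtain ⟨U, hU, r', rfl⟩ := X.presheaf.exists_germ_eq r
  obtain ⟨V, hV, a', rfl⟩ := F.presheaf.exists_germ_eq a
  refine ⟨U ⊓ V, ⟨hU, hV⟩, X.presheaf.map (homOfLE inf_le_left).op r',
    F.presheaf.map (homOfLE inf_le_right).op a', ?_, ?_⟩
  · exact X.presheaf.germ_res_apply _ x _ r'
  · exact F.presheaf.germ_res_apply _ x _ a'

theorem stalkOfHom_smul {F : X.Modules} (φ : F ⟶ sky x N) (r : X.presheaf.stalk x)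
    (a : F.presheaf.stalk x) : stalkOfHom φ (r • a) = (r • stalkOfHom φ a : N) := by
  obtain ⟨U, h, r, a, rfl, rfl⟩ := exists_germ_pair F x r a
  rw [← germ_smul, stalkOfHom_germ, stalkOfHom_germ, Scheme.Modules.Hom.app_smul, skyEval_smul]

/-- A linear map on the stalk induces a morphism into the skyscraper. -/
noncomputable def homOfStalk {F : X.Modules} (ψ : F.presheaf.stalk x →ₗ[X.presheaf.stalk x] N) :
    F ⟶ sky x N where
  val := PresheafOfModules.homMk
    { app := fun U => AddCommGrpCat.ofHom
        { toFun := fun a (h : ULift.{u} (PLift (x ∈ U.unop))) =>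
            ψ (F.presheaf.germ U.unop x h.down.down a)
          map_zero' := funext fun h => by
            show ψ (F.presheaf.germ U.unop x h.down.down 0) = 0
            rw [map_zero, map_zero]
          map_add' := fun a b => funext fun h =>
            (congrArg ψ (map_add (F.presheaf.germ U.unop x h.down.down).hom
              (show Γ(F, U.unop) from a) b)).trans (map_add ψ _ _) }
      naturality := fun U V i => by
        ext a
        funext h
        exact congrArg ψ (F.presheaf.germ_res_apply' i x h.down.down a) }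
    fun U r a => funext fun h => by
      show ψ (F.presheaf.germ U.unop x h.down.down ((show Γ(X, U.unop) from r) • (show Γ(F, U.unop) from a))) = _
      rw [germ_smul, map_smul]
      rfl

theorem skyEval_homOfStalk {F : X.Modules} (ψ : F.presheaf.stalk x →ₗ[X.presheaf.stalk x] N)
    (U : X.Opens) (h : x ∈ U) (a : Γ(F, U)) :
    skyEval x N U h ((homOfStalk ψ).app U a) = ψ (F.presheaf.germ U x h a) := rfl

end Sky

section Pullback

variable (f : X ⟶ Y) (M : Y.Modules) (x : X)

/-- The canonical map `M_{f x} → (f^* M)_x`. -/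
noncomputable def pullStalk :
    M.presheaf.stalk (f.base x) ⟶ ((Scheme.Modules.pullback f).obj M).presheaf.stalk x :=
  colimit.desc ((OpenNhds.inclusion (f.base x)).op ⋙ M.presheaf)
    ⟨((Scheme.Modules.pullback f).obj M).presheaf.stalk x,
      { app := fun U => OmegaSh.pullSect f M U.unop.1 ≫
          ((Scheme.Modules.pullback f).obj M).presheaf.germ (f ⁻¹ᵁ U.unop.1) x U.unop.2
        naturality := fun U V i => by
          ext a
          show ((Scheme.Modules.pullback f).obj M).presheaf.germ (f ⁻¹ᵁ V.unop.1) x V.unop.2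
            (OmegaSh.pullSect f M V.unop.1 (M.presheaf.map _ a)) = _
          refine (congrArg (((Scheme.Modules.pullback f).obj M).presheaf.germ (f ⁻¹ᵁ V.unop.1) x V.unop.2)
            (congr($(((Scheme.Modules.pullbackPushforwardAdjunction f).unit.app M).mapPresheaf.naturality
              ((OpenNhds.inclusion (f.base x)).op.map i)) a))).trans ?_
          exact TopCat.Presheaf.germ_res_apply _
            ((TopologicalSpace.Opens.map f.base).map ((OpenNhds.inclusion (f.base x)).map i.unop)) x
            V.unop.2 (OmegaSh.pullSect f M U.unop.1 a) }⟩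

theorem pullStalk_germ (U : Y.Opens) (h : f.base x ∈ U) (m : Γ(M, U)) :
    pullStalk f M x (M.presheaf.germ U (f.base x) h m) =
      ((Scheme.Modules.pullback f).obj M).presheaf.germ (f ⁻¹ᵁ U) x h (OmegaSh.pullSect f M U m) :=
  by
  show (colimit.ι ((OpenNhds.inclusion (f.base x)).op ⋙ M.presheaf)
    (op (⟨U, h⟩ : OpenNhds (f.base x))) ≫ pullStalk f M x) m = _
  rw [pullStalk, colimit.ι_desc]
  rfl

theorem pullStalk_smul (r : Y.presheaf.stalk (f.base x)) (m : M.presheaf.stalk (f.base x)) :
    pullStalk f M x (r • m) = (f.stalkMap x).hom r • pullStalk f M x m := by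
  obtain ⟨U, h, r, m, rfl, rfl⟩ := exists_germ_pair M (f.base x) r m
  rw [← germ_smul, pullStalk_germ, pullStalk_germ,
    show OmegaSh.pullSect f M U (r • m) = f.app U r • OmegaSh.pullSect f M U m from
      Scheme.Modules.Hom.app_smul _ r m,
    germ_smul, ← Scheme.Hom.germ_stalkMap_apply f U x h r]

/-- `O_{X,x}` as an algebra over `O_{Y,f x}`. -/
noncomputable abbrev stalkAlgebra : Algebra (Y.presheaf.stalk (f.base x)) (X.presheaf.stalk x) :=
  (f.stalkMap x).hom.toAlgebra

attribute [local instance] stalkAlgebra

/-- The canonical map `O_{X,x} ⊗ M_{f x} → (f^* M)_x`. -/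
noncomputable def pullStalkLin :
    X.presheaf.stalk x ⊗[Y.presheaf.stalk (f.base x)] M.presheaf.stalk (f.base x)
      →ₗ[X.presheaf.stalk x] ((Scheme.Modules.pullback f).obj M).presheaf.stalk x :=
  letI := FlatMod.moduleStalkOver f ((Scheme.Modules.pullback f).obj M) x
  haveI : IsScalarTower (Y.presheaf.stalk (f.base x)) (X.presheaf.stalk x)
      (((Scheme.Modules.pullback f).obj M).presheaf.stalk x) := .of_algebraMap_smul fun _ _ => rfl
  LinearMap.liftBaseChange (X.presheaf.stalk x)
    { toFun := pullStalk f M x
      map_add' := map_add _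
      map_smul' := pullStalk_smul f M x }

theorem pullStalkLin_tmul (r : X.presheaf.stalk x) (m : M.presheaf.stalk (f.base x)) :
    pullStalkLin f M x (r ⊗ₜ m) = r • pullStalk f M x m := by
  simp [pullStalkLin]

theorem homEquiv_app {F : X.Modules} (φ : (Scheme.Modules.pullback f).obj M ⟶ F) (U : Y.Opens)
    (m : Γ(M, U)) :
    ((Scheme.Modules.pullbackPushforwardAdjunction f).homEquiv M F φ).app U m =
      φ.app (f ⁻¹ᵁ U) (OmegaSh.pullSect f M U m) := by
  rw [Adjunction.homEquiv_unit]
  rfl

theorem pullStalkLin_bijective : Function.Bijective (pullStalkLin f M x) := by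
  constructor
  · let T := X.presheaf.stalk x ⊗[Y.presheaf.stalk (f.base x)] M.presheaf.stalk (f.base x)
    let g : M ⟶ (Scheme.Modules.pushforward f).obj (sky x T) :=
      { val := PresheafOfModules.homMk
          { app := fun U => AddCommGrpCat.ofHom
              { toFun := fun m (h : ULift.{u} (PLift (x ∈ f ⁻¹ᵁ U.unop))) =>
                  ((1 : X.presheaf.stalk x) ⊗ₜ M.presheaf.germ U.unop (f.base x) h.down.down m : T)
                map_zero' := funext fun h => by
                  show (1 : X.presheaf.stalk x) ⊗ₜ M.presheaf.germ U.unop (f.base x) h.down.down 0 = (0 : T)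
                  rw [map_zero, tmul_zero]
                map_add' := fun a b => funext fun h =>
                  (congrArg (fun z => ((1 : X.presheaf.stalk x) ⊗ₜ z : T))
                    (map_add (M.presheaf.germ U.unop (f.base x) h.down.down).hom
                      (show Γ(M, U.unop) from a) b)).trans (tmul_add _ _ _) }
            naturality := fun U V i => by
              ext a
              funext h
              exact congrArg (fun z => ((1 : X.presheaf.stalk x) ⊗ₜ z : T))
                (M.presheaf.germ_res_apply' i (f.base x) h.down.down a) }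
          fun U r a => funext fun h => by
            show (1 : X.presheaf.stalk x) ⊗ₜ M.presheaf.germ U.unop (f.base x) h.down.down
                ((show Γ(Y, U.unop) from r) • (show Γ(M, U.unop) from a)) = _
            rw [germ_smul, tmul_smul, ← algebraMap_smul (X.presheaf.stalk x)]
            show (f.stalkMap x).hom (Y.presheaf.germ U.unop (f.base x) h.down.down r) • _ = _
            rw [Scheme.Hom.germ_stalkMap_apply]
            rfl }
    let gt := ((Scheme.Modules.pullbackPushforwardAdjunction f).homEquiv M (sky x T)).symm g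
    have key : ∀ t : T, stalkOfHom gt (pullStalkLin f M x t) = t := by
      intro t
      induction t using TensorProduct.induction_on with
      | zero => simp
      | add a b ha hb => rw [map_add, map_add, ha, hb]
      | tmul r m =>
        obtain ⟨U, h, m, rfl⟩ := M.presheaf.exists_germ_eq m
        have h2 := homEquiv_app f M gt U m
        rw [Equiv.apply_symm_apply] at h2
        rw [pullStalkLin_tmul, stalkOfHom_smul, pullStalk_germ, stalkOfHom_germ, ← h2]
        show r • ((1 : X.presheaf.stalk x) ⊗ₜ M.presheaf.germ U (f.base x) h m : T) = _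
        rw [TensorProduct.smul_tmul', smul_eq_mul, mul_one]
    intro a b hab
    rw [← key a, hab, key b]
  · let F := (Scheme.Modules.pullback f).obj M
    let P := LinearMap.range (pullStalkLin f M x)
    have h0 : homOfStalk (F := F) P.mkQ = 0 := by
      apply ((Scheme.Modules.pullbackPushforwardAdjunction f).homEquiv M
        (sky x (F.presheaf.stalk x ⧸ P))).injective
      apply Scheme.Modules.hom_ext
      intro U
      ext m
      rw [homEquiv_app, homEquiv_app]
      refine skyEval_ext (N := F.presheaf.stalk x ⧸ P) x fun hx => ?_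
      rw [skyEval_homOfStalk]
      refine ((Submodule.Quotient.mk_eq_zero P).mpr ⟨1 ⊗ₜ M.presheaf.germ U (f.base x) hx m, ?_⟩).trans ?_
      · rw [pullStalkLin_tmul, one_smul, pullStalk_germ]
      · rfl
    intro z
    obtain ⟨V, hV, a, rfl⟩ := F.presheaf.exists_germ_eq z
    refine (Submodule.Quotient.mk_eq_zero P).mp ?_
    have h1 := skyEval_homOfStalk (F := F) P.mkQ V hV a
    rw [h0] at h1
    exact h1.symm

/-- `(f^* M)_x = O_{X,x} ⊗ M_{f x}`. -/
noncomputable def pullStalkEquiv :
    X.presheaf.stalk x ⊗[Y.presheaf.stalk (f.base x)] M.presheaf.stalk (f.base x)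
      ≃ₗ[X.presheaf.stalk x] ((Scheme.Modules.pullback f).obj M).presheaf.stalk x :=
  LinearEquiv.ofBijective _ (pullStalkLin_bijective f M x)

theorem pullStalk_naturality {M' : Y.Modules} (φ : M ⟶ M') (m : M.presheaf.stalk (f.base x)) :
    (TopCat.Presheaf.stalkFunctor Ab.{u} x).map ((Scheme.Modules.pullback f).map φ).mapPresheaf
        (pullStalk f M x m) =
      pullStalk f M' x ((TopCat.Presheaf.stalkFunctor Ab.{u} (f.base x)).map φ.mapPresheaf m) := by
  obtain ⟨U, h, m, rfl⟩ := M.presheaf.exists_germ_eq m
  rw [pullStalk_germ, TopCat.Presheaf.stalkFunctor_map_germ_apply,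
    TopCat.Presheaf.stalkFunctor_map_germ_apply, pullStalk_germ]
  congr 1
  exact congr($(congr(Scheme.Modules.Hom.app
    $((Scheme.Modules.pullbackPushforwardAdjunction f).unit.naturality φ) U)) m).symm

end Pullback

end Groth.Agent.H06Mod
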