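import Groth.Agent.H06Mod.StalkPullback
import Groth.Agent.H8Props.FlatKernel

/-! Stalks of a short exact sequence of `O`-modules. -/

set_option autoImplicit false
set_option linter.style.haveILetI false

universe u

open CategoryTheory CategoryTheory.Limits AlgebraicGeometry TopologicalSpace Opposite TensorProduct

namespace Groth.Agent.H06Mod

variable {X : Scheme.{u}}

theorem stalkMap_smul {M N : X.Modules} (φ : M ⟶ N) (x : X) (r : X.presheaf.stalk x)
    (a : M.presheaf.stalk x) :
    (TopCat.Presheaf.stalkFunctor Ab.{u} x).map φ.mapPresheaf (r • a) =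
      r • (show N.presheaf.stalk x from (TopCat.Presheaf.stalkFunctor Ab.{u} x).map φ.mapPresheaf a) := by
  obtain ⟨U, h, r, a, rfl, rfl⟩ := exists_germ_pair M x r a
  rw [← germ_smul, TopCat.Presheaf.stalkFunctor_map_germ_apply,
    TopCat.Presheaf.stalkFunctor_map_germ_apply, Scheme.Modules.mapPresheaf_app,
    Scheme.Modules.Hom.app_smul, germ_smul]

/-- The stalk of a morphism of modules, as a linear map. -/
noncomputable def stalkLin {M N : X.Modules} (φ : M ⟶ N) (x : X) :
    M.presheaf.stalk x →ₗ[X.presheaf.stalk x] N.presheaf.stalk x where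
  toFun := (TopCat.Presheaf.stalkFunctor Ab.{u} x).map φ.mapPresheaf
  map_add' := map_add _
  map_smul' := stalkMap_smul φ x

theorem stalkLin_germ {M N : X.Modules} (φ : M ⟶ N) (x : X) (U : X.Opens) (h : x ∈ U) (a : Γ(M, U)) :
    stalkLin φ x (M.presheaf.germ U x h a) = N.presheaf.germ U x h (φ.app U a) :=
  TopCat.Presheaf.stalkFunctor_map_germ_apply _ _ _ _ a

variable (S : ShortComplex X.Modules) (hS : S.ShortExact) (x : X)
include hS

theorem stalk_surjective : Function.Surjective (stalkLin S.g x) :=
  haveI := hS.epi_g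
  surjective_stalk_of_epi S.g x

theorem exact_sections (U : X.Opens) :
    Function.Injective (S.f.app U) ∧
      ∀ b : Γ(S.X₂, U), S.g.app U b = 0 → ∃ a, S.f.app U a = b := by
  let G : X.Modules ⥤ AddCommGrpCat.{u} :=
    Scheme.Modules.toPresheaf X ⋙ (evaluation (Opens X)ᵒᵖ AddCommGrpCat.{u}).obj (op U)
  haveI : (Scheme.Modules.toPresheaf X).Additive := ⟨rfl⟩
  haveI : G.PreservesZeroMorphisms := { map_zero := fun _ _ => rfl }
  haveI : PreservesFiniteLimits (Scheme.Modules.toPresheaf X) :=
    PreservesLimitsOfSize.preservesFiniteLimits _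
  haveI : PreservesFiniteLimits ((evaluation (Opens X)ᵒᵖ AddCommGrpCat.{u}).obj (op U)) := inferInstance
  haveI : PreservesFiniteLimits G := comp_preservesFiniteLimits _ _
  haveI : G.PreservesMonomorphisms := inferInstance
  haveI := hS.mono_f
  constructor
  · haveI : Mono (G.map S.f) := G.map_mono S.f
    exact (AddCommGrpCat.mono_iff_injective (G.map S.f)).mp inferInstance
  · exact (ShortComplex.ab_exact_iff _).mp
      (hS.exact.map_of_mono_of_preservesKernel G inferInstance inferInstance)

theorem stalk_injective : Function.Injective (stalkLin S.f x) :=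
  TopCat.Presheaf.stalkFunctor_map_injective_of_app_injective (f := S.f.mapPresheaf)
    (fun U => (exact_sections S hS U).1) x

theorem stalk_exact : Function.Exact (stalkLin S.f x) (stalkLin S.g x) := by
  intro b
  constructor
  · intro hb
    obtain ⟨U, hU, b, rfl⟩ := S.X₂.presheaf.exists_germ_eq b
    rw [stalkLin_germ, ← map_zero (S.X₃.presheaf.germ U x hU).hom] at hb
    obtain ⟨W, hxW, iU, iU', heq⟩ := S.X₃.presheaf.germ_eq x hU hU _ 0 hb
    rw [map_zero] at heq
    have hb' : S.g.app W (S.X₂.presheaf.map iU.op b) = 0 := by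
      rw [← heq]
      exact congr($(S.g.mapPresheaf.naturality iU.op) b)
    obtain ⟨a, ha⟩ := (exact_sections S hS W).2 _ hb'
    refine ⟨S.X₁.presheaf.germ W x hxW a, ?_⟩
    rw [stalkLin_germ, ha]
    exact S.X₂.presheaf.germ_res_apply iU x hxW b
  · rintro ⟨a, rfl⟩
    obtain ⟨U, hU, a, rfl⟩ := S.X₁.presheaf.exists_germ_eq a
    rw [stalkLin_germ, stalkLin_germ]
    refine (congrArg (S.X₃.presheaf.germ U x hU)
      (ConcreteCategory.congr_hom (congrArg (fun φ => Scheme.Modules.Hom.app φ U) S.zero) a)).trans ?_
    exact map_zero _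

omit hS in
/-- An extension of flat modules is flat. -/
theorem flat_of_exact_middle {R : Type u} [CommRing R] {P M Q : Type u} [AddCommGroup P]
    [AddCommGroup M] [AddCommGroup Q] [Module R P] [Module R M] [Module R Q] [Module.Flat R P]
    [Module.Flat R Q] (g : P →ₗ[R] M) (f : M →ₗ[R] Q) (hg : Function.Injective g)
    (H : Function.Exact g f) (hf : Function.Surjective f) : Module.Flat R M := by
  rw [Module.Flat.iff_rTensor_preserves_injective_linearMap]
  intro N N' _ _ _ _ φ hφ
  rw [injective_iff_map_eq_zero]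
  intro z hz
  have h1 : f.lTensor N z = 0 := by
    apply Module.Flat.rTensor_preserves_injective_linearMap φ hφ
    rw [map_zero, ← LinearMap.comp_apply, LinearMap.rTensor_comp_lTensor,
      ← LinearMap.lTensor_comp_rTensor, LinearMap.comp_apply, hz, map_zero]
  obtain ⟨w, rfl⟩ := (lTensor_exact N H hf z).mp h1
  rw [← LinearMap.comp_apply, LinearMap.rTensor_comp_lTensor, ← LinearMap.lTensor_comp_rTensor,
    LinearMap.comp_apply] at hz
  have hw : φ.rTensor P w = 0 :=
    LinearMap.lTensor_injective_of_exact_of_flat f hf g hg H N' (by rw [hz, map_zero])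
  rw [Module.Flat.rTensor_preserves_injective_linearMap φ hφ (hw.trans (map_zero _).symm), map_zero]

end Groth.Agent.H06Mod
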