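import Groth.Agent.H06Mod.StalkFaithful
import Groth.Agent.H8Props.Reduced
import Mathlib.AlgebraicGeometry.Pullbacks

/-! Local rings of fibre products and base change of flatness at a point. -/

set_option autoImplicit false
set_option linter.style.haveILetI false

universe u

open CategoryTheory CategoryTheory.Limits AlgebraicGeometry TensorProduct

namespace Groth.Agent.H06Mod

/-- The map `A ⊗_R R' → C` induced by two compatible algebra structures. -/
noncomputable abbrev tensorLift (R A R' C : Type u) [CommRing R] [CommRing A] [CommRing R'] [CommRing C]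
    [Algebra R A] [Algebra R R'] [Algebra R C] [Algebra A C] [Algebra R' C] [IsScalarTower R A C]
    [IsScalarTower R R' C] : A ⊗[R] R' →ₐ[R] C :=
  Algebra.TensorProduct.lift (IsScalarTower.toAlgHom R A C) (IsScalarTower.toAlgHom R R' C)
    (fun _ _ => Commute.all _ _)

theorem flat_tensorLift (R A R' C : Type u) [CommRing R] [CommRing A] [CommRing R'] [CommRing C]
    [Algebra R A] [Algebra R R'] [Algebra R C] [Algebra A C] [Algebra R' C] [IsScalarTower R A C]
    [IsScalarTower R R' C] {X Y Y' : Scheme.{u}} (f : X ⟶ Y) (g : Y' ⟶ Y)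
    (a : Spec (.of A) ⟶ X) (b : Spec (.of R) ⟶ Y) (b' : Spec (.of R') ⟶ Y') [Mono a] [Mono b']
    (ha : Spec.map (CommRingCat.ofHom (algebraMap R A)) ≫ b = a ≫ f)
    (hb : Spec.map (CommRingCat.ofHom (algebraMap R R')) ≫ b = b' ≫ g)
    (c : Spec (.of C) ⟶ pullback f g) [Flat c]
    (hc1 : Spec.map (CommRingCat.ofHom (algebraMap A C)) ≫ a = c ≫ pullback.fst f g)
    (hc2 : Spec.map (CommRingCat.ofHom (algebraMap R' C)) ≫ b' = c ≫ pullback.snd f g) :
    (tensorLift R A R' C).toRingHom.Flat := by
  let φ : Spec (.of (A ⊗[R] R')) ⟶ pullback f g := (pullbackSpecIso R A R').inv ≫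
    pullback.map _ _ _ _ a b' b ha hb
  haveI : Mono (pullback.map (Spec.map (CommRingCat.ofHom (algebraMap R A)))
      (Spec.map (CommRingCat.ofHom (algebraMap R R'))) f g a b' b ha hb) := by
    refine ⟨fun u v huv => pullback.hom_ext ?_ ?_⟩
    · rw [← cancel_mono a, Category.assoc, Category.assoc]
      have h' := congrArg (fun w => w ≫ pullback.fst f g) huv
      simp only [Category.assoc] at h'
      erw [pullback.lift_fst] at h'
      exact h'
    · rw [← cancel_mono b', Category.assoc, Category.assoc]
      have h' := congrArg (fun w => w ≫ pullback.snd f g) huv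
      simp only [Category.assoc] at h'
      erw [pullback.lift_snd] at h'
      exact h'
  haveI : Mono φ := mono_comp _ _
  let σ : Spec (.of C) ⟶ Spec (.of (A ⊗[R] R')) :=
    Spec.map (CommRingCat.ofHom (tensorLift R A R' C).toRingHom)
  have e1 : σ ≫ Spec.map (CommRingCat.ofHom (Algebra.TensorProduct.includeLeftRingHom :
      A →+* A ⊗[R] R')) = Spec.map (CommRingCat.ofHom (algebraMap A C)) := by
    rw [← Spec.map_comp]
    congr 1
    ext r
    simp [tensorLift]
  have e2 : σ ≫ Spec.map (CommRingCat.ofHom (R := R') (S := A ⊗[R] R')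
      (RingHomClass.toRingHom (Algebra.TensorProduct.includeRight : R' →ₐ[R] A ⊗[R] R'))) =
      Spec.map (CommRingCat.ofHom (algebraMap R' C)) := by
    rw [← Spec.map_comp]
    congr 1
    ext r
    simp [tensorLift]
  have hσ : σ ≫ φ = c := by
    apply pullback.hom_ext
    · simp only [φ, Category.assoc, pullback.lift_fst, pullbackSpecIso_inv_fst_assoc]
      rw [← Category.assoc, e1, hc1]
    · simp only [φ, Category.assoc, pullback.lift_snd, pullbackSpecIso_inv_snd_assoc]
      rw [← Category.assoc, e2, hc2]
  let l : Spec (.of C) ⟶ pullback c φ := pullback.lift (𝟙 _) σ (by rw [Category.id_comp, hσ])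
  haveI : IsIso l := by
    refine ⟨pullback.fst _ _, pullback.lift_fst _ _ _, pullback.hom_ext ?_ ?_⟩
    · rw [Category.assoc, pullback.lift_fst, Category.comp_id, Category.id_comp]
    · rw [← cancel_mono φ]
      simp only [l, Category.assoc, pullback.lift_snd_assoc, hσ, Category.id_comp]
      exact pullback.condition
  have : Flat (l ≫ pullback.snd c φ) := inferInstance
  rw [pullback.lift_snd] at this
  exact (HasRingHomProperty.Spec_iff (P := @Flat)).mp this

theorem flat_tensor_of_flat {R S T N : Type u} [CommRing R] [CommRing S] [CommRing T] [Algebra R S]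
    [Algebra R T] [Algebra S T] [IsScalarTower R S T] [Module.Flat S T]
    [AddCommGroup N] [Module R N] [Module S N] [IsScalarTower R S N] [Module.Flat R N] :
    Module.Flat R (T ⊗[S] N) := by
  let e (P : Type u) [AddCommGroup P] [Module R P] := AlgebraTensorModule.assoc R S S T N P
  rw [Module.Flat.iff_lTensor_injective']
  intro I
  let φ : N ⊗[R] I →ₗ[S] N ⊗[R] R := AlgebraTensorModule.lTensor S N I.subtype
  have key : ∀ z, e R (LinearMap.lTensor (T ⊗[S] N) I.subtype z) = φ.lTensor T (e I z) := by
    intro z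
    induction z with
    | zero => simp
    | add a b ha hb => simp only [map_add, ha, hb]
    | tmul tn i =>
      induction tn with
      | zero => simp
      | tmul t n => simp [e, φ]
      | add a b ha hb => simp only [add_tmul, map_add, ha, hb]
  have hinj : Function.Injective (φ.lTensor T) :=
    Module.Flat.lTensor_preserves_injective_linearMap φ
      (Module.Flat.lTensor_preserves_injective_linearMap I.subtype Subtype.val_injective)
  intro a b hab
  exact (e I).injective (hinj (by rw [← key, ← key, hab]))

attribute [local instance] Algebra.TensorProduct.rightAlgebra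

/-- If `N` is flat over `R` and `A ⊗_R R' → C` is flat then `C ⊗_A N` is flat over `R'`. -/
theorem flat_baseChange_of_tensorLift (R A R' C N : Type u) [CommRing R] [CommRing A] [CommRing R']
    [CommRing C] [Algebra R A] [Algebra R R'] [Algebra R C] [Algebra A C] [Algebra R' C]
    [IsScalarTower R A C] [IsScalarTower R R' C] [AddCommGroup N] [Module R N] [Module A N]
    [IsScalarTower R A N] [Module.Flat R N] (h : (tensorLift R A R' C).toRingHom.Flat) :
    Module.Flat R' (C ⊗[A] N) := by
  let ψ : R' ⊗[R] A →ₐ[R] C := (tensorLift R A R' C).comp (Algebra.TensorProduct.comm R R' A).toAlgHom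
  letI : Algebra (R' ⊗[R] A) C := ψ.toRingHom.toAlgebra
  haveI : IsScalarTower R' (R' ⊗[R] A) C := .of_algebraMap_eq fun r => by
    show algebraMap R' C r = ψ (r ⊗ₜ 1)
    simp [ψ, tensorLift]
  haveI : IsScalarTower A (R' ⊗[R] A) C := .of_algebraMap_eq fun r => by
    show algebraMap A C r = ψ (1 ⊗ₜ r)
    simp [ψ, tensorLift]
  haveI : Module.Flat (R' ⊗[R] A) C := by
    have hb : (Algebra.TensorProduct.comm R R' A).toAlgHom.toRingHom.Flat :=
      RingHom.Flat.of_bijective (Algebra.TensorProduct.comm R R' A).bijective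
    exact hb.comp h
  haveI : Module.Flat R' ((R' ⊗[R] A) ⊗[A] N) :=
    Module.Flat.of_linearEquiv (Algebra.IsPushout.cancelBaseChange R R' A (R' ⊗[R] A) N)
  haveI := flat_tensor_of_flat (R := R') (S := R' ⊗[R] A) (T := C) (N := (R' ⊗[R] A) ⊗[A] N)
  exact Module.Flat.of_linearEquiv
    ((AlgebraTensorModule.cancelBaseChange A (R' ⊗[R] A) C C N).restrictScalars R').symm

end Groth.Agent.H06Mod

namespace Groth.Agent.H06Mod

attribute [local instance] stalkAlgebra

variable {X Y Y' : Scheme.{u}} (f : X ⟶ Y) (g : Y' ⟶ Y)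

/-- Flatness at a point is stable under base change (EGA IV 2.1.4). -/
theorem isFlatOverAt_baseChange (F : X.Modules) (x' : ↑(pullback f g))
    (h : FlatMod.IsFlatOverAt f F ((pullback.fst f g).base x')) :
    FlatMod.IsFlatOverAt (pullback.snd f g) ((Scheme.Modules.pullback (pullback.fst f g)).obj F) x' := by
  let x := (pullback.fst f g).base x'
  let y' := (pullback.snd f g).base x'
  have hy : g.base y' = f.base x := by
    show g.base ((pullback.snd f g).base x') = f.base ((pullback.fst f g).base x')
    rw [← Scheme.Hom.comp_apply, ← Scheme.Hom.comp_apply, pullback.condition]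
  let β : Y.presheaf.stalk (f.base x) ⟶ Y'.presheaf.stalk y' :=
    Y.presheaf.stalkSpecializes (specializes_of_eq hy) ≫ g.stalkMap y'
  letI : Algebra (Y.presheaf.stalk (f.base x)) (Y'.presheaf.stalk y') := β.hom.toAlgebra
  letI : Algebra (Y.presheaf.stalk (f.base x)) (X.presheaf.stalk x) := stalkAlgebra f x
  letI : Algebra (X.presheaf.stalk x) ((pullback f g).presheaf.stalk x') :=
    stalkAlgebra (pullback.fst f g) x'
  letI : Algebra (Y'.presheaf.stalk y') ((pullback f g).presheaf.stalk x') :=
    stalkAlgebra (pullback.snd f g) x'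
  letI : Algebra (Y.presheaf.stalk (f.base x)) ((pullback f g).presheaf.stalk x') :=
    (f.stalkMap x ≫ (pullback.fst f g).stalkMap x').hom.toAlgebra
  haveI : IsScalarTower (Y.presheaf.stalk (f.base x)) (X.presheaf.stalk x)
      ((pullback f g).presheaf.stalk x') := .of_algebraMap_eq fun _ => rfl
  have hb : Spec.map β ≫ Y.fromSpecStalk (f.base x) = Y'.fromSpecStalk y' ≫ g := by
    rw [Spec.map_comp, Category.assoc, Scheme.SpecMap_stalkSpecializes_fromSpecStalk,
      Scheme.SpecMap_stalkMap_fromSpecStalk]
  have ha : Spec.map (f.stalkMap x) ≫ Y.fromSpecStalk (f.base x) = X.fromSpecStalk x ≫ f :=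
    Scheme.SpecMap_stalkMap_fromSpecStalk f
  clear_value β
  have hcomm : β ≫ (pullback.snd f g).stalkMap x' = f.stalkMap x ≫ (pullback.fst f g).stalkMap x' := by
    apply Spec.map_injective
    rw [← cancel_mono (Y.fromSpecStalk (f.base x)), Spec.map_comp, Spec.map_comp, Category.assoc,
      Category.assoc, hb, ha, ← Category.assoc, ← Category.assoc,
      Scheme.SpecMap_stalkMap_fromSpecStalk, Scheme.SpecMap_stalkMap_fromSpecStalk, Category.assoc,
      Category.assoc, pullback.condition]
  haveI : IsScalarTower (Y.presheaf.stalk (f.base x)) (Y'.presheaf.stalk y')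
      ((pullback f g).presheaf.stalk x') :=
    .of_algebraMap_eq fun r => congr($(congrArg CommRingCat.Hom.hom hcomm) r).symm
  have hflat := flat_tensorLift (Y.presheaf.stalk (f.base x)) (X.presheaf.stalk x)
    (Y'.presheaf.stalk y') ((pullback f g).presheaf.stalk x') f g (X.fromSpecStalk x)
    (Y.fromSpecStalk (f.base x)) (Y'.fromSpecStalk y') ha hb ((pullback f g).fromSpecStalk x')
    (Scheme.SpecMap_stalkMap_fromSpecStalk _) (Scheme.SpecMap_stalkMap_fromSpecStalk _)
  letI := FlatMod.moduleStalkOver f F x
  haveI : IsScalarTower (Y.presheaf.stalk (f.base x)) (X.presheaf.stalk x) (F.presheaf.stalk x) :=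
    .of_algebraMap_smul fun _ _ => rfl
  haveI : Module.Flat (Y.presheaf.stalk (f.base x)) (F.presheaf.stalk x) := h
  have h2 : Module.Flat (Y'.presheaf.stalk y')
      ((pullback f g).presheaf.stalk x' ⊗[X.presheaf.stalk x] F.presheaf.stalk x) :=
    flat_baseChange_of_tensorLift _ _ _ _ _ hflat
  letI m1 : Module (Y'.presheaf.stalk y')
      (((Scheme.Modules.pullback (pullback.fst f g)).obj F).presheaf.stalk x') :=
    FlatMod.moduleStalkOver (pullback.snd f g) _ x'
  let e : ((pullback f g).presheaf.stalk x' ⊗[X.presheaf.stalk x] F.presheaf.stalk x)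
      ≃ₗ[Y'.presheaf.stalk y'] ((Scheme.Modules.pullback (pullback.fst f g)).obj F).presheaf.stalk x' :=
    { (pullStalkEquiv (pullback.fst f g) F x').toAddEquiv with
      map_smul' := fun r t => by
        show pullStalkEquiv (pullback.fst f g) F x' (r • t) =
          ((pullback.snd f g).stalkMap x').hom r • pullStalkEquiv (pullback.fst f g) F x' t
        rw [← algebraMap_smul ((pullback f g).presheaf.stalk x') r t, map_smul]
        rfl }
  show Module.Flat (Y'.presheaf.stalk y') _
  haveI := h2
  exact Module.Flat.of_linearEquiv e.symm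

/-- Flatness over an intermediate base along a flat morphism. -/
theorem isFlatOverAt_comp_of_flat {Z : Scheme.{u}} (p : X ⟶ Y) (q : Y ⟶ Z) [Flat q] (F : X.Modules)
    (x : X) (h : FlatMod.IsFlatOverAt p F x) : FlatMod.IsFlatOverAt (p ≫ q) F x := by
  letI := FlatMod.moduleStalkOver p F x
  letI : Algebra (Z.presheaf.stalk (q (p x))) (Y.presheaf.stalk (p x)) :=
    (q.stalkMap (p x)).hom.toAlgebra
  letI : Module (Z.presheaf.stalk (q (p x))) (F.presheaf.stalk x) :=
    FlatMod.moduleStalkOver (p ≫ q) F x
  haveI : IsScalarTower (Z.presheaf.stalk (q (p x))) (Y.presheaf.stalk (p x)) (F.presheaf.stalk x) :=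
    .of_algebraMap_smul fun r a => by
      show (p.stalkMap x).hom ((q.stalkMap (p x)).hom r) • a = ((p ≫ q).stalkMap x).hom r • a
      rw [Scheme.Hom.stalkMap_comp]
      rfl
  haveI : Module.Flat (Y.presheaf.stalk (p x)) (F.presheaf.stalk x) := h
  haveI : Module.Flat (Z.presheaf.stalk (q (p x))) (Y.presheaf.stalk (p x)) := Flat.stalkMap q (p x)
  exact Module.Flat.trans (Z.presheaf.stalk (q (p x))) (Y.presheaf.stalk (p x)) (F.presheaf.stalk x)

theorem isFlatOverAt_congr {p q : X ⟶ Y} (h : p = q) (F : X.Modules) (x : X) :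
    FlatMod.IsFlatOverAt p F x ↔ FlatMod.IsFlatOverAt q F x := by subst h; rfl

end Groth.Agent.H06Mod
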