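import Groth.Agent.H06Mod.StalkPullback

/-! Inverse image along flat morphisms on stalks. -/

set_option autoImplicit false
set_option linter.style.haveILetI false

universe u

open CategoryTheory AlgebraicGeometry TensorProduct

namespace Groth.Agent.H06Mod

attribute [local instance] stalkAlgebra

variable {X Y : Scheme.{u}} (f : X ⟶ Y) [Flat f]

theorem faithfullyFlat_stalk (x : X) :
    Module.FaithfullyFlat (Y.presheaf.stalk (f.base x)) (X.presheaf.stalk x) := by
  haveI : Module.Flat (Y.presheaf.stalk (f.base x)) (X.presheaf.stalk x) := Flat.stalkMap f x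
  haveI : IsLocalHom (algebraMap (Y.presheaf.stalk (f.base x)) (X.presheaf.stalk x)) :=
    inferInstanceAs (IsLocalHom (f.stalkMap x).hom)
  exact Module.FaithfullyFlat.of_flat_of_isLocalHom

theorem pullStalk_injective (M : Y.Modules) (x : X) : Function.Injective (pullStalk f M x) := by
  haveI := faithfullyFlat_stalk f x
  intro a b hab
  have h1 : ∀ m, pullStalk f M x m = pullStalkLin f M x (1 ⊗ₜ m) := fun m => by
    rw [pullStalkLin_tmul, one_smul]
  rw [h1, h1] at hab
  exact Module.FaithfullyFlat.tensorProduct_mk_injective _ ((pullStalkLin_bijective f M x).1 hab)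

end Groth.Agent.H06Mod

namespace Groth.Agent.H06Mod

theorem flat_tensor_iff {R S T N : Type u} [CommRing R] [CommRing S] [CommRing T] [Algebra R S]
    [Algebra R T] [Algebra S T] [IsScalarTower R S T] [Module.FaithfullyFlat S T]
    [AddCommGroup N] [Module R N] [Module S N] [IsScalarTower R S N] :
    Module.Flat R (T ⊗[S] N) ↔ Module.Flat R N := by
  let e (P : Type u) [AddCommGroup P] [Module R P] := AlgebraTensorModule.assoc R S S T N P
  rw [Module.Flat.iff_lTensor_injective', Module.Flat.iff_lTensor_injective']
  refine forall_congr' fun I => ?_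
  let φ : N ⊗[R] I →ₗ[S] N ⊗[R] R := AlgebraTensorModule.lTensor S N I.subtype
  have key : ∀ z, e R (LinearMap.lTensor (T ⊗[S] N) I.subtype z) = φ.lTensor T (e I z) := by
    intro z
    induction z with
    | zero => simp
    | add a b ha hb => simp only [map_add, ha, hb]
    | tmul tn i =>
      induction tn with
      | zero => simp
      | tmul t n => simp [e, φ]
      | add a b ha hb => simp only [add_tmul, map_add, ha, hb]
  rw [show (⇑(I.subtype.lTensor N) : N ⊗[R] I → N ⊗[R] R) = φ from rfl,
    ← Module.FaithfullyFlat.lTensor_injective_iff_injective S T φ]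
  constructor
  · intro h a b hab
    obtain ⟨a, rfl⟩ := (e I).surjective a
    obtain ⟨b, rfl⟩ := (e I).surjective b
    rw [← key, ← key] at hab
    exact congrArg _ (h ((e R).injective hab))
  · intro h a b hab
    exact (e I).injective (h (by rw [← key, ← key, hab]))

attribute [local instance] stalkAlgebra

variable {X Y Z : Scheme.{u}} (f : X ⟶ Y) [Flat f] (g : Y ⟶ Z)

/-- Flatness of an inverse image along a flat morphism, at one point (EGA IV 2.2.11). -/
theorem isFlatOverAt_pullback_iff (G : Y.Modules) (x : X) :
    FlatMod.IsFlatOverAt (f ≫ g) ((Scheme.Modules.pullback f).obj G) x ↔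
      FlatMod.IsFlatOverAt g G (f.base x) := by
  haveI := faithfullyFlat_stalk f x
  letI : Algebra (Z.presheaf.stalk (g.base (f.base x))) (Y.presheaf.stalk (f.base x)) :=
    (g.stalkMap (f.base x)).hom.toAlgebra
  letI : Algebra (Z.presheaf.stalk (g.base (f.base x))) (X.presheaf.stalk x) := stalkAlgebra (f ≫ g) x
  haveI : IsScalarTower (Z.presheaf.stalk (g.base (f.base x))) (Y.presheaf.stalk (f.base x))
      (X.presheaf.stalk x) := .of_algebraMap_eq fun r => by
    show ((f ≫ g).stalkMap x).hom r = (f.stalkMap x).hom ((g.stalkMap (f.base x)).hom r)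
    rw [Scheme.Hom.stalkMap_comp]
    rfl
  letI := FlatMod.moduleStalkOver g G (f.base x)
  haveI : IsScalarTower (Z.presheaf.stalk (g.base (f.base x))) (Y.presheaf.stalk (f.base x))
      (G.presheaf.stalk (f.base x)) := .of_algebraMap_smul fun _ _ => rfl
  letI m1 : Module (Z.presheaf.stalk (g.base (f.base x)))
      (((Scheme.Modules.pullback f).obj G).presheaf.stalk x) :=
    FlatMod.moduleStalkOver (f ≫ g) ((Scheme.Modules.pullback f).obj G) x
  refine Iff.trans ?_ (flat_tensor_iff (R := Z.presheaf.stalk (g.base (f.base x)))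
    (S := Y.presheaf.stalk (f.base x)) (T := X.presheaf.stalk x) (N := G.presheaf.stalk (f.base x)))
  let e : (X.presheaf.stalk x ⊗[Y.presheaf.stalk (f.base x)] G.presheaf.stalk (f.base x))
      ≃ₗ[Z.presheaf.stalk (g.base (f.base x))] ((Scheme.Modules.pullback f).obj G).presheaf.stalk x :=
    { (pullStalkEquiv f G x).toAddEquiv with
      map_smul' := fun r t => by
        show pullStalkEquiv f G x (r • t) = ((f ≫ g).stalkMap x).hom r • pullStalkEquiv f G x t
        rw [← algebraMap_smul (X.presheaf.stalk x) r t, map_smul]
        rfl }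
  show Module.Flat (Z.presheaf.stalk (g.base (f.base x)))
    (((Scheme.Modules.pullback f).obj G).presheaf.stalk x) ↔ _
  constructor
  · intro h
    haveI := h
    exact Module.Flat.of_linearEquiv e
  · intro h
    haveI := h
    exact Module.Flat.of_linearEquiv e.symm

end Groth.Agent.H06Mod
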